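import Groth.Agent.L05.AdicLim.Module
import Mathlib.RingTheory.Finiteness.Ideal

/-!
# Limits of adic systems of modules along a finitely generated ideal
-/

set_option autoImplicit false

universe u v

open Submodule

namespace Groth.L05.AdicLim

theorem exists_sum_of_mem_span_smul {A : Type u} [CommRing A] {N : Type v} [AddCommGroup N] [Module A N]
    {r : ℕ} (g : Fin r → A) (P : Submodule A N) {d : N} (hd : d ∈ Ideal.span (Set.range g) • P) :
    ∃ δ : Fin r → N, (∀ i, δ i ∈ P) ∧ ∑ i, g i • δ i = d := by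
  refine smul_induction_on hd (fun a ha m hm => ?_) (fun a b ha hb => ?_)
  · obtain ⟨c, hc⟩ := Ideal.mem_span_range_iff_exists_fun.mp ha
    refine ⟨fun i => c i • m, fun i => P.smul_mem _ hm, ?_⟩
    rw [← hc, Finset.sum_smul]
    exact Finset.sum_congr rfl fun i _ => by rw [smul_smul, mul_comm]
  · obtain ⟨δ, hδ, rfl⟩ := ha
    obtain ⟨ε, hε, rfl⟩ := hb
    exact ⟨δ + ε, fun i => add_mem (hδ i) (hε i), by simp [Finset.sum_add_distrib]⟩

variable {A : Type u} [CommRing A] (I : Ideal A)
variable {M : ℕ → Type v} [∀ n, AddCommGroup (M n)] [∀ n, Module A (M n)]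
  {f : ∀ n, M (n + 1) →ₗ[A] M n}
  (hf : ∀ n, Function.Surjective (f n))
  (hk : ∀ n, I ^ (n + 1) • (⊤ : Submodule A (M n)) = ⊥)
  (hker : ∀ n, LinearMap.ker (f n) = I ^ (n + 1) • (⊤ : Submodule A (M (n + 1))))
  {L : Type v} [AddCommGroup L] [Module A L] {π : ∀ n, L →ₗ[A] M n}
  (hπ : ∀ n, f n ∘ₗ π (n + 1) = π n)
  (hinj : ∀ x : L, (∀ n, π n x = 0) → x = 0)
  (hlift : ∀ y : (∀ n, M n), (∀ n, f n (y (n + 1)) = y n) → ∃ x : L, ∀ n, π n x = y n)

include hf hk hker hπ hlift in
theorem π_surjective : ∀ n, Function.Surjective (π n) := by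
  intro n
  induction n with
  | zero => exact exists_lift_zero hf hlift
  | succ n ih =>
    have h1 : (⊤ : Submodule A (M (n + 1))) ≤ LinearMap.range (π (n + 1)) ⊔ I ^ (n + 1) • ⊤ := by
      intro z _
      obtain ⟨x, hx⟩ := ih (f n z)
      refine mem_sup.mpr ⟨_, ⟨x, rfl⟩, z - π (n + 1) x, ?_, by abel⟩
      rw [← hker, LinearMap.mem_ker, map_sub, ← LinearMap.comp_apply, hπ, hx, sub_self]
    have h2 : I ^ (n + 1) • (⊤ : Submodule A (M (n + 1))) ≤ LinearMap.range (π (n + 1)) := by
      refine (smul_mono_right _ h1).trans ?_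
      rw [smul_sup, ← mul_smul, ← pow_add]
      refine sup_le smul_le_right ?_
      exact (smul_mono_left (Ideal.pow_le_pow_right (by omega))).trans ((hk (n + 1)).le.trans bot_le)
    intro z
    exact (h1.trans (sup_le le_rfl h2)) (x := z) trivial

include hk hker hπ hinj hlift in
theorem ker_eq_of_fg (hI : I.FG) (hsur : ∀ n, Function.Surjective (π n)) (n : ℕ) :
    LinearMap.ker (π n) = I ^ (n + 1) • (⊤ : Submodule A L) := by
  refine le_antisymm (fun x hx => ?_) ?_
  · obtain ⟨r, g, hg⟩ := fg_iff_exists_fin_generating_family.mp (Ideal.FG.pow (n := n + 1) hI)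
    have hJ : Ideal.span (Set.range g) = I ^ (n + 1) := hg
    have step : ∀ (k : ℕ) (c : Fin r → L), π (n + k) (x - ∑ i, g i • c i) = 0 →
        ∃ c' : Fin r → L, π (n + k + 1) (x - ∑ i, g i • c' i) = 0 ∧
          ∀ i, c' i - c i ∈ I ^ k • (⊤ : Submodule A L) := by
      intro k c hc
      have h1 : π (n + k + 1) (x - ∑ i, g i • c i) ∈ LinearMap.ker (f (n + k)) := by
        rw [LinearMap.mem_ker, ← LinearMap.comp_apply, hπ, hc]
      rw [hker, show I ^ (n + k + 1) = I ^ (n + 1) * I ^ k by rw [← pow_add]; congr 1; omega,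
        mul_smul, ← hJ] at h1
      obtain ⟨δ, hδ, hsum⟩ := exists_sum_of_mem_span_smul g _ h1
      have hlift' : ∀ i, ∃ e ∈ I ^ k • (⊤ : Submodule A L), π (n + k + 1) e = δ i := by
        intro i
        have := hδ i
        rw [← LinearMap.range_eq_top.mpr (hsur (n + k + 1)), ← Submodule.map_top, ← map_smul''] at this
        exact this
      choose e he heq using hlift'
      refine ⟨fun i => c i + e i, ?_, fun i => by simpa using he i⟩
      simp only [smul_add, Finset.sum_add_distrib, ← sub_sub, map_sub, map_sum, map_smul, heq]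
      rw [map_sub, map_sum] at hsum
      simp only [map_smul] at hsum
      rw [hsum, sub_self]
    choose s hs1 hs2 using step
    let c : ∀ k, {c : Fin r → L // π (n + k) (x - ∑ i, g i • c i) = 0} := fun k =>
      Nat.rec ⟨0, by simpa using hx⟩ (fun k c => ⟨s k c.1 c.2, hs1 k c.1 c.2⟩) k
    have hzero : ∀ (j : ℕ) (z : L), z ∈ I ^ (j + 1) • (⊤ : Submodule A L) → π j z = 0 := by
      intro j z hz
      have := mem_map_of_mem (f := π j) hz
      rw [map_smul''] at this
      exact (Submodule.mem_bot A).mp (hk j ▸ (smul_mono_right (I ^ (j + 1)) le_top :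
        I ^ (j + 1) • Submodule.map (π j) ⊤ ≤ I ^ (j + 1) • ⊤) this)
    have hy : ∀ i, ∃ y : L, ∀ j, π j y = π j ((c (j + 1)).1 i) := by
      intro i
      refine hlift (fun j => π j ((c (j + 1)).1 i)) fun j => ?_
      rw [← LinearMap.comp_apply, hπ, ← sub_eq_zero, ← map_sub]
      exact hzero j _ (hs2 (j + 1) (c (j + 1)).1 (c (j + 1)).2 i)
    choose y hy using hy
    have hxy : x = ∑ i, g i • y i := by
      rw [← sub_eq_zero]
      refine hinj _ fun j => ?_
      have h2 := π_eq_zero_of_le hπ (show j ≤ n + (j + 1) by omega) (c (j + 1)).2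
      simpa [map_sum, hy] using h2
    rw [hxy, ← hJ]
    exact sum_mem fun i _ => smul_mem_smul (Ideal.subset_span ⟨i, rfl⟩) trivial
  · intro x hx
    have := mem_map_of_mem (f := π n) hx
    rw [map_smul''] at this
    exact (Submodule.mem_bot A).mp (hk n ▸ (smul_mono_right (I ^ (n + 1)) le_top :
      I ^ (n + 1) • Submodule.map (π n) ⊤ ≤ I ^ (n + 1) • ⊤) this)

end Groth.L05.AdicLim
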