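import Mathlib.RingTheory.AdicCompletion.Basic
import Mathlib.RingTheory.Finiteness.Basic
import Mathlib.Algebra.Module.Projective

/-!
# Limits of systems of modules over a complete base
-/

open Submodule

namespace Groth.L05.AdicLim

universe u v

variable {A : Type u} [CommRing A] (I : Ideal A)

theorem mem_smul_top_pi {m : ℕ} (J : Ideal A) (x : Fin m → A) :
    x ∈ J • (⊤ : Submodule A (Fin m → A)) ↔ ∀ j, x j ∈ J := by
  classical
  refine ⟨fun hx j => ?_, fun hx => ?_⟩
  · have := mem_map_of_mem (f := LinearMap.proj (R := A) (φ := fun _ : Fin m => A) j) hx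
    rw [map_smul''] at this
    refine (smul_le.mpr fun r hr s _ => ?_) this
    exact J.mul_mem_right _ hr
  · rw [show x = ∑ j, x j • (Pi.single j (1 : A) : Fin m → A) by
      conv_lhs => rw [← Finset.univ_sum_single x]
      exact Finset.sum_congr rfl fun j _ => by rw [← Pi.single_smul, smul_eq_mul, mul_one]]
    exact sum_mem fun j _ => smul_mem_smul (hx j) trivial

theorem exists_limit [IsAdicComplete I A] {m : ℕ} (c : ℕ → Fin m → A)
    (h : ∀ k, c (k + 1) - c k ∈ I ^ k • (⊤ : Submodule A (Fin m → A))) :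
    ∃ L : Fin m → A, ∀ k, L - c k ∈ I ^ k • (⊤ : Submodule A (Fin m → A)) := by
  have hc : ∀ j {a b}, a ≤ b → c b j - c a j ∈ I ^ a := by
    intro j a b hab
    induction b, hab using Nat.le_induction with
    | base => simp
    | succ b hab ih =>
      rw [← sub_add_sub_cancel _ (c b j)]
      exact add_mem (Ideal.pow_le_pow_right hab ((mem_smul_top_pi _ _).mp (h b) j)) ih
  choose L hL using fun j => IsPrecomplete.prec (I := I) (M := A) inferInstance
    (f := fun k => c k j) (fun {a b} hab => by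
      rw [SModEq.sub_mem, smul_eq_mul, Ideal.mul_top, ← neg_sub]
      exact neg_mem (hc j hab))
  refine ⟨L, fun k => (mem_smul_top_pi _ _).mpr fun j => ?_⟩
  have := SModEq.sub_mem.mp (hL j k)
  rw [smul_eq_mul, Ideal.mul_top] at this
  rw [Pi.sub_apply, ← neg_sub]
  exact neg_mem this

variable {M : ℕ → Type v} [∀ n, AddCommGroup (M n)] [∀ n, Module A (M n)]
  {f : ∀ n, M (n + 1) →ₗ[A] M n}
  (hf : ∀ n, Function.Surjective (f n))
  (hk : ∀ n, I ^ (n + 1) • (⊤ : Submodule A (M n)) = ⊥)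
  (hker : ∀ n, LinearMap.ker (f n) = I ^ (n + 1) • (⊤ : Submodule A (M (n + 1))))
  {L : Type v} [AddCommGroup L] [Module A L] {π : ∀ n, L →ₗ[A] M n}
  (hπ : ∀ n, f n ∘ₗ π (n + 1) = π n)
  (hinj : ∀ x : L, (∀ n, π n x = 0) → x = 0)
  (hlift : ∀ y : (∀ n, M n), (∀ n, f n (y (n + 1)) = y n) → ∃ x : L, ∀ n, π n x = y n)

include hf hlift in
theorem exists_lift_zero (a : M 0) : ∃ x : L, π 0 x = a := by
  let y : ∀ n, M n := fun n => Nat.rec (motive := M) a (fun k z => (hf k z).choose) n
  obtain ⟨x, hx⟩ := hlift y fun n => (hf n (y n)).choose_spec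
  exact ⟨x, hx 0⟩

include hπ in
theorem π_eq_zero_of_le {y : L} {a b : ℕ} (hab : a ≤ b) (h : π b y = 0) : π a y = 0 := by
  induction b, hab using Nat.le_induction with
  | base => exact h
  | succ b hab ih => exact ih (by rw [← hπ b, LinearMap.comp_apply, h, map_zero])

include hf hk hker hπ hlift in
theorem exists_presentation (h0 : Module.Finite A (M 0)) :
    ∃ (m : ℕ) (φ : (Fin m → A) →ₗ[A] L), ∀ n, Function.Surjective (π n ∘ₗ φ) := by
  obtain ⟨m, e, he⟩ := Module.Finite.exists_fin (R := A) (M := M 0)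
  choose x hx using fun i => exists_lift_zero hf hlift (π := π) (e i)
  refine ⟨m, Fintype.linearCombination A x, fun n => ?_⟩
  have hspan : ∀ k, (⊤ : Submodule A (M k)) ≤
      LinearMap.range (π k ∘ₗ Fintype.linearCombination A x) ⊔ I • ⊤ := by
    intro k
    induction k with
    | zero =>
      refine le_trans ?_ le_sup_left
      rw [← he, span_le]
      rintro _ ⟨i, rfl⟩
      exact ⟨Pi.single i 1, by simp [hx]⟩
    | succ k ih =>
      intro z _
      obtain ⟨_, ⟨c, rfl⟩, w, hw, hcw⟩ := mem_sup.mp (ih (x := f k z) trivial)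
      rw [show I • (⊤ : Submodule A (M k)) = (I • (⊤ : Submodule A (M (k + 1)))).map (f k) by
        rw [map_smul'', Submodule.map_top, LinearMap.range_eq_top.mpr (hf k)]] at hw
      obtain ⟨w, hw, rfl⟩ := hw
      have : z - (π (k + 1) (Fintype.linearCombination A x c) + w) ∈ LinearMap.ker (f k) := by
        rw [LinearMap.mem_ker, map_sub, map_add, ← LinearMap.comp_apply (f k), hπ, ← hcw,
          LinearMap.comp_apply, sub_self]
      rw [hker] at this
      refine mem_sup.mpr ⟨_, ⟨c, rfl⟩, w + (z - (π (k + 1) (Fintype.linearCombination A x c) + w)),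
        add_mem hw (smul_mono_left (Ideal.pow_le_self k.succ_ne_zero) this), ?_⟩
      rw [LinearMap.comp_apply]
      abel
  have hpow : ∀ j, (⊤ : Submodule A (M n)) ≤
      LinearMap.range (π n ∘ₗ Fintype.linearCombination A x) ⊔ I ^ j • ⊤ := by
    intro j
    induction j with
    | zero => simp
    | succ j ih =>
      refine (hspan n).trans (sup_le le_sup_left ?_)
      refine (smul_mono_right I ih).trans ?_
      rw [smul_sup, ← mul_smul, ← pow_succ']
      exact sup_le_sup_right smul_le_right _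
  have := hpow (n + 1)
  rw [hk, sup_bot_eq] at this
  exact fun z => this (x := z) trivial

variable [IsAdicComplete I A] {m : ℕ} {φ : (Fin m → A) →ₗ[A] L}
  (hφ : ∀ n, Function.Surjective (π n ∘ₗ φ))

include hk hker hπ hinj hφ in
theorem exists_preimage (n : ℕ) (x : L) (c₀ : Fin m → A) (h0 : π n (x - φ c₀) = 0) :
    ∃ c, φ c = x ∧ c - c₀ ∈ I ^ (n + 1) • (⊤ : Submodule A (Fin m → A)) := by
  have step : ∀ (k : ℕ) (c : Fin m → A), π k (x - φ c) = 0 →
      ∃ c', π (k + 1) (x - φ c') = 0 ∧ c' - c ∈ I ^ (k + 1) • (⊤ : Submodule A (Fin m → A)) := by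
    intro k c hc
    have h1 : π (k + 1) (x - φ c) ∈ LinearMap.ker (f k) := by
      rw [LinearMap.mem_ker, ← LinearMap.comp_apply, hπ, hc]
    rw [hker, ← LinearMap.range_eq_top.mpr (hφ (k + 1)), ← Submodule.map_top, ← map_smul''] at h1
    obtain ⟨d, hd, hde⟩ := h1
    refine ⟨c + d, ?_, by rwa [add_sub_cancel_left]⟩
    rw [LinearMap.comp_apply] at hde
    rw [map_add, ← sub_sub, map_sub, hde, sub_self]
  choose g hg1 hg2 using fun k c => step k c
  let c : ∀ k, {c : Fin m → A // π (n + k) (x - φ c) = 0} := fun k =>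
    Nat.rec ⟨c₀, h0⟩ (fun k c => ⟨g (n + k) c.1 c.2, hg1 _ _ _⟩) k
  obtain ⟨C, hC⟩ := exists_limit I (fun k => (c k).1) fun k =>
    smul_mono_left (Ideal.pow_le_pow_right (by omega)) (hg2 (n + k) (c k).1 (c k).2)
  refine ⟨C, ?_, ?_⟩
  · rw [eq_comm, ← sub_eq_zero]
    refine hinj _ fun j => ?_
    have h1 : π j (φ (C - (c (j + 1)).1)) = 0 := by
      have := mem_map_of_mem (f := π j ∘ₗ φ) (hC (j + 1))
      rw [map_smul''] at this
      have hle := smul_mono_right (I ^ (j + 1)) (le_top (a := Submodule.map (π j ∘ₗ φ) ⊤))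
      exact (Submodule.mem_bot A).mp (hk j ▸ hle this)
    have h2 : π j (x - φ (c (j + 1)).1) = 0 :=
      π_eq_zero_of_le hπ (by omega) (c (j + 1)).2
    rw [map_sub φ, map_sub] at h1
    rw [map_sub] at h2 ⊢
    rw [sub_eq_zero] at h1 h2 ⊢
    rw [h2, h1]
  · have h1 : ∀ k, (c k).1 - c₀ ∈ I ^ (n + 1) • (⊤ : Submodule A (Fin m → A)) := fun k => by
      induction k with
      | zero => simp [c]
      | succ k ih =>
        rw [← sub_add_sub_cancel _ (c k).1]
        exact add_mem (smul_mono_left (Ideal.pow_le_pow_right (by omega))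
          (hg2 (n + k) (c k).1 (c k).2)) ih
    rw [← sub_add_sub_cancel _ (c (n + 1)).1]
    exact add_mem (hC _) (h1 _)

include hk hker hπ hinj hφ in
theorem surjective_and_ker :
    Function.Surjective φ ∧ ∀ n, LinearMap.ker (π n) = I ^ (n + 1) • (⊤ : Submodule A L) := by
  refine ⟨fun x => ?_, fun n => le_antisymm (fun x hx => ?_) ?_⟩
  · obtain ⟨c₀, hc₀⟩ := hφ 0 (π 0 x)
    obtain ⟨c, hc, -⟩ := exists_preimage I hk hker hπ hinj hφ 0 x c₀ (by
      rw [map_sub, ← LinearMap.comp_apply, hc₀, sub_self])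
    exact ⟨c, hc⟩
  · obtain ⟨c, hc, hc'⟩ := exists_preimage I hk hker hπ hinj hφ n x 0 (by simpa using hx)
    rw [sub_zero] at hc'
    have := mem_map_of_mem (f := φ) hc'
    rw [map_smul'', hc] at this
    exact (smul_mono_right _ le_top :
      I ^ (n + 1) • Submodule.map φ ⊤ ≤ I ^ (n + 1) • ⊤) this
  · intro x hx
    have := mem_map_of_mem (f := π n) hx
    rw [map_smul''] at this
    exact (Submodule.mem_bot A).mp (hk n ▸ (smul_mono_right (I ^ (n + 1)) le_top :
      I ^ (n + 1) • Submodule.map (π n) ⊤ ≤ I ^ (n + 1) • ⊤) this)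

omit [IsAdicComplete I A] in
include hπ hinj hlift in
theorem isAdicComplete_limit
    (hkerπ : ∀ n, LinearMap.ker (π n) = I ^ (n + 1) • (⊤ : Submodule A L)) :
    IsAdicComplete I L := by
  refine { haus' := fun x hx => hinj x fun n => ?_, prec' := fun a ha => ?_ }
  · rw [← LinearMap.mem_ker, hkerπ]
    simpa using SModEq.sub_mem.mp (hx (n + 1))
  · have hc : ∀ n, f n (π (n + 1) (a (n + 2))) = π n (a (n + 1)) := fun n => by
      rw [← LinearMap.comp_apply, hπ, ← sub_eq_zero, ← map_sub, ← LinearMap.mem_ker, hkerπ,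
        ← neg_sub]
      exact neg_mem (SModEq.sub_mem.mp (ha (Nat.le_succ (n + 1))))
    obtain ⟨x, hx⟩ := hlift (fun n => π n (a (n + 1))) hc
    refine ⟨x, fun n => ?_⟩
    rcases n with _ | n
    · simp [SModEq.sub_mem]
    · rw [SModEq.sub_mem, ← hkerπ, LinearMap.mem_ker, map_sub, hx, sub_self]

omit [IsAdicComplete I A] in
theorem exists_lift_of_summand {J : Ideal A} {N P Q : Type*} [AddCommGroup N] [Module A N]
    [AddCommGroup P] [Module A P] [AddCommGroup Q] [Module A Q] {k : ℕ}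
    {i : N →ₗ[A] (Fin k → A ⧸ J)} {r : (Fin k → A ⧸ J) →ₗ[A] N} (hri : r ∘ₗ i = LinearMap.id)
    (g : P →ₗ[A] Q) (hg : Function.Surjective g) (hJ : ∀ a ∈ J, ∀ p : P, a • p = 0) (h : N →ₗ[A] Q) :
    ∃ t : N →ₗ[A] P, g ∘ₗ t = h := by
  classical
  choose p hp using fun j => hg (h (r (Pi.single j 1)))
  let l : (Fin k → A ⧸ J) →ₗ[A] P :=
    ∑ j, (Submodule.liftQ J (LinearMap.toSpanSingleton A P (p j))
      (fun a ha => hJ a ha (p j))).comp (LinearMap.proj (R := A) (φ := fun _ : Fin k => A ⧸ J) j)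
  refine ⟨l ∘ₗ i, ?_⟩
  have : g ∘ₗ l = h ∘ₗ r := LinearMap.pi_ext fun j z => by
    obtain ⟨a, rfl⟩ := Ideal.Quotient.mk_surjective z
    have e : (Pi.single j (Ideal.Quotient.mk J a) : Fin k → A ⧸ J) = a • Pi.single j 1 := by
      rw [← Pi.single_smul]
      congr 1
      rw [← Ideal.Quotient.algebraMap_eq, Algebra.algebraMap_eq_smul_one]
    rw [e, map_smul, map_smul, LinearMap.comp_apply, LinearMap.comp_apply]
    congr 1
    rw [show l (Pi.single j 1) = p j from ?_, hp]
    rw [show l (Pi.single j 1) = ∑ b, Submodule.liftQ J (LinearMap.toSpanSingleton A P (p b))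
      (fun a ha => hJ a ha (p b)) ((Pi.single j (1 : A ⧸ J) : Fin k → A ⧸ J) b) by
        simp [l, LinearMap.sum_apply]]
    rw [Finset.sum_eq_single j (fun b _ hb => by rw [Pi.single_eq_of_ne hb, map_zero]) (by simp),
      Pi.single_eq_same]
    exact (Submodule.liftQ_apply J _ (1 : A)).trans (one_smul A (p j))
  rw [← LinearMap.comp_assoc, this, LinearMap.comp_assoc, hri, LinearMap.comp_id]

include hk hπ hinj hφ in
theorem exists_section
    (hproj : ∀ n, ∃ (k : ℕ) (i : M n →ₗ[A] (Fin k → A ⧸ I ^ (n + 1)))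
      (r : (Fin k → A ⧸ I ^ (n + 1)) →ₗ[A] M n), r ∘ₗ i = LinearMap.id)
    (hker : ∀ n, LinearMap.ker (f n) = I ^ (n + 1) • (⊤ : Submodule A (M (n + 1)))) :
    ∃ s : L →ₗ[A] (Fin m → A), φ ∘ₗ s = LinearMap.id := by
  classical
  let K : ℕ → Submodule A (Fin m → A) := fun n => I ^ (n + 1) • ⊤
  let F : ℕ → Type u := fun n => (Fin m → A) ⧸ K n
  let φn : ∀ n, F n →ₗ[A] M n := fun n => (K n).liftQ (π n ∘ₗ φ) fun z hz => by
    have := mem_map_of_mem (f := π n ∘ₗ φ) hz
    rw [map_smul''] at this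
    exact (Submodule.mem_bot A).mp (hk n ▸ (smul_mono_right (I ^ (n + 1)) le_top :
      I ^ (n + 1) • Submodule.map (π n ∘ₗ φ) ⊤ ≤ I ^ (n + 1) • ⊤) this)
  have hKle : ∀ n, K (n + 1) ≤ K n := fun n => smul_mono_left (Ideal.pow_le_pow_right (by omega))
  let p : ∀ n, F (n + 1) →ₗ[A] F n := fun n => (K (n + 1)).mapQ (K n) LinearMap.id (hKle n)
  have hpφ : ∀ n, φn n ∘ₗ p n = f n ∘ₗ φn (n + 1) := fun n => Submodule.linearMap_qext _ <|
    LinearMap.ext fun z => by
      show π n (φ z) = f n (π (n + 1) (φ z))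
      rw [← hπ n, LinearMap.comp_apply]
  have hφn : ∀ n, Function.Surjective (φn n) := fun n z => by
    obtain ⟨c, rfl⟩ := hφ n z
    exact ⟨Submodule.Quotient.mk c, rfl⟩
  have hkill : ∀ n, ∀ a ∈ I ^ (n + 1), ∀ z : F n, a • z = 0 := fun n a ha z => by
    obtain ⟨z, rfl⟩ := Submodule.Quotient.mk_surjective (K n) z
    rw [← Submodule.Quotient.mk_smul, Submodule.Quotient.mk_eq_zero]
    exact smul_mem_smul ha trivial
  have step : ∀ n (s : M n →ₗ[A] F n), φn n ∘ₗ s = LinearMap.id →
      ∃ s' : M (n + 1) →ₗ[A] F (n + 1), φn (n + 1) ∘ₗ s' = LinearMap.id ∧ p n ∘ₗ s' = s ∘ₗ f n := by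
    intro n s hs
    obtain ⟨k, i, r, hri⟩ := hproj (n + 1)
    obtain ⟨t, ht⟩ := exists_lift_of_summand hri (p n) (fun z => by
      obtain ⟨z, rfl⟩ := Submodule.Quotient.mk_surjective (K n) z
      exact ⟨Submodule.Quotient.mk z, rfl⟩) (hkill (n + 1)) (s ∘ₗ f n)
    let W : Submodule A (F (n + 1)) := I ^ (n + 1) • ⊤
    let g : W →ₗ[A] LinearMap.ker (f n) := LinearMap.codRestrict _ (φn (n + 1) ∘ₗ W.subtype) fun w => by
      rw [hker, ← LinearMap.range_eq_top.mpr (hφn (n + 1)), ← Submodule.map_top, ← map_smul'']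
      exact mem_map_of_mem w.2
    have hg : Function.Surjective g := fun z => by
      have hz : z.1 ∈ W.map (φn (n + 1)) := by
        have e : LinearMap.ker (f n) ≤ W.map (φn (n + 1)) := by
          rw [hker, map_smul'', Submodule.map_top, LinearMap.range_eq_top.mpr (hφn (n + 1))]
        exact e z.2
      obtain ⟨w, hw, hwz⟩ := hz
      exact ⟨⟨w, hw⟩, Subtype.ext hwz⟩
    let δ : M (n + 1) →ₗ[A] LinearMap.ker (f n) :=
      LinearMap.codRestrict _ (φn (n + 1) ∘ₗ t - LinearMap.id) fun z => by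
        rw [LinearMap.mem_ker, LinearMap.sub_apply, map_sub, ← LinearMap.comp_apply (f n),
          ← LinearMap.comp_assoc, ← hpφ, LinearMap.comp_assoc, ht, ← LinearMap.comp_assoc, hs]
        simp
    obtain ⟨t', ht'⟩ := exists_lift_of_summand hri g hg
      (fun a ha w => Subtype.ext (hkill (n + 1) a ha w.1)) δ
    refine ⟨t - W.subtype ∘ₗ t', LinearMap.ext fun z => ?_, LinearMap.ext fun z => ?_⟩
    · have h1 : φn (n + 1) (t' z).1 = φn (n + 1) (t z) - z :=
        congrArg Subtype.val (DFunLike.congr_fun ht' z)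
      simp only [LinearMap.comp_apply, LinearMap.sub_apply, map_sub, Submodule.subtype_apply,
        LinearMap.id_apply, h1]
      abel
    · have h1 : p n (t' z).1 = 0 := by
        have := mem_map_of_mem (f := p n) (t' z).2
        rw [map_smul''] at this
        have e : I ^ (n + 1) • Submodule.map (p n) ⊤ ≤ (⊥ : Submodule A (F n)) :=
          smul_le.mpr fun a ha w _ =>
            (Submodule.mem_bot A).mpr (hkill n a ha w)
        exact (Submodule.mem_bot A).mp (e this)
      have h2 : p n (t z) = s (f n z) := DFunLike.congr_fun ht z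
      simp only [LinearMap.comp_apply, LinearMap.sub_apply, map_sub, Submodule.subtype_apply, h1,
        sub_zero, h2]
  have base : ∃ s₀ : M 0 →ₗ[A] F 0, φn 0 ∘ₗ s₀ = LinearMap.id := by
    obtain ⟨k, i, r, hri⟩ := hproj 0
    exact exists_lift_of_summand hri (φn 0) (hφn 0) (hkill 0) LinearMap.id
  obtain ⟨s₀, hs₀⟩ := base
  choose g hg1 hg2 using step
  let S : ∀ n, {s : M n →ₗ[A] F n // φn n ∘ₗ s = LinearMap.id} := fun n =>
    Nat.rec ⟨s₀, hs₀⟩ (fun n s => ⟨g n s.1 s.2, hg1 n s.1 s.2⟩) n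
  have hS : ∀ n, p n ∘ₗ (S (n + 1)).1 = (S n).1 ∘ₗ f n := fun n => hg2 n (S n).1 (S n).2
  have hlim : ∀ x : L, ∃! c : Fin m → A, ∀ n, Submodule.Quotient.mk c = (S n).1 (π n x) := by
    intro x
    choose c hc using fun n => Submodule.Quotient.mk_surjective (K n) ((S n).1 (π n x))
    have hcc : ∀ n, c (n + 1) - c n ∈ K n := fun n => by
      rw [← Submodule.Quotient.eq, hc n, ← hπ n, LinearMap.comp_apply,
        ← LinearMap.comp_apply (S n).1, ← hS n, LinearMap.comp_apply, ← hc (n + 1)]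
      rfl
    obtain ⟨C, hC⟩ := exists_limit I c fun n => smul_mono_left (Ideal.pow_le_pow_right (by omega)) (hcc n)
    refine ⟨C, fun n => ?_, fun C' hC' => ?_⟩
    · show (Submodule.Quotient.mk C : F n) = _
      rw [← hc n, Submodule.Quotient.eq, ← sub_add_sub_cancel _ (c (n + 1))]
      exact add_mem (hC (n + 1)) (hcc n)
    · have h1 : ∀ n, C' - C ∈ I ^ n • (⊤ : Submodule A (Fin m → A)) := fun n => by
        rw [← sub_add_sub_cancel _ (c n)]
        refine add_mem (smul_mono_left (Ideal.pow_le_pow_right n.le_succ)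
          ((Submodule.Quotient.eq (K n)).mp ((hC' n).trans (hc n).symm))) ?_
        rw [← neg_sub]
        exact neg_mem (hC n)
      funext j
      rw [← sub_eq_zero]
      refine IsHausdorff.haus (I := I) (M := A) inferInstance _ fun n => ?_
      rw [SModEq.sub_mem, sub_zero, smul_eq_mul, Ideal.mul_top]
      exact (mem_smul_top_pi _ _).mp (h1 n) j
  choose σ hσ hσu using hlim
  refine ⟨{ toFun := σ, map_add' := fun x y => ?_, map_smul' := fun a x => ?_ },
    LinearMap.ext fun x => ?_⟩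
  · refine (hσu (x + y) _ fun n => ?_).symm
    rw [Submodule.Quotient.mk_add, hσ, hσ, map_add, map_add]
  · refine (hσu (a • x) _ fun n => ?_).symm
    rw [RingHom.id_apply, Submodule.Quotient.mk_smul, hσ, map_smul, map_smul]
  · show φ (σ x) = x
    rw [← sub_eq_zero]
    refine hinj _ fun n => ?_
    have h1 : π n (φ (σ x)) = φn n (Submodule.Quotient.mk (σ x)) := rfl
    rw [map_sub, h1, hσ x n, ← LinearMap.comp_apply, (S n).2, LinearMap.id_apply, sub_self]

end Groth.L05.AdicLim
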