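import Groth.Agent.L05.AdicLim.Module
import Mathlib.RingTheory.Flat.EquationalCriterion
import Mathlib.RingTheory.Idempotents
import Mathlib.RingTheory.Nakayama
import Mathlib.RingTheory.Noetherian.Nilpotent
import Mathlib.LinearAlgebra.Matrix.ToLin
import Mathlib.RingTheory.Nilpotent.Lemmas
import Mathlib.LinearAlgebra.FreeModule.Finite.Basic

/-!
# Finite flat modules along surjections with nil kernel, and their limits
-/

set_option autoImplicit false

open Submodule

universe u

namespace Groth.L05.AdicLim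

theorem isNilpotent_matrix {R : Type u} [CommRing R] {m : ℕ} (X : Matrix (Fin m) (Fin m) R)
    (h : ∀ i j, IsNilpotent (X i j)) : IsNilpotent X := by
  let J : Ideal R := Ideal.span (Set.range fun p : Fin m × Fin m => X p.1 p.2)
  have hJ : IsNilpotent J := by
    have hfg : J.FG := Submodule.fg_span (Set.finite_range _)
    rw [Ideal.FG.isNilpotent_iff_le_nilradical hfg, Ideal.span_le]
    rintro _ ⟨p, rfl⟩
    exact h p.1 p.2
  obtain ⟨k, hk⟩ := hJ
  have hmem : ∀ n i j, (X ^ n) i j ∈ J ^ n := by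
    intro n
    induction n with
    | zero => simp
    | succ n ih =>
      intro i j
      rw [pow_succ X, Matrix.mul_apply, pow_succ]
      exact sum_mem fun l _ => Ideal.mul_mem_mul (ih i l) (Ideal.subset_span ⟨(l, j), rfl⟩)
  refine ⟨k, Matrix.ext fun i j => ?_⟩
  have := hmem k i j
  rw [hk] at this
  exact this

/-- Lifting a splitting along a surjection with nil kernel. -/
theorem exists_splitting {R S : Type u} [CommRing R] [CommRing S] (t : R →+* S)
    (ht : Function.Surjective t) (hnil : ∀ x, t x = 0 → IsNilpotent x)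
    {M N : Type u} [AddCommGroup M] [Module R M] [AddCommGroup N] [Module S N]
    [Module.Flat R M] [Module.Finite R M] (u : M →ₛₗ[t] N) (hu : Function.Surjective u)
    (hker : LinearMap.ker u = RingHom.ker t • (⊤ : Submodule R M))
    {m : ℕ} (q₀ : (Fin m → S) →ₗ[S] N) (s₀ : N →ₗ[S] (Fin m → S)) (h₀ : q₀ ∘ₗ s₀ = LinearMap.id) :
    ∃ (q : (Fin m → R) →ₗ[R] M) (s : M →ₗ[R] (Fin m → R)), q ∘ₗ s = LinearMap.id ∧
      (∀ z, u (q z) = q₀ (t ∘ z)) ∧ ∀ x, t ∘ (s x) = s₀ (u x) := by
  classical
  choose a ha using fun i : Fin m => hu (q₀ (Pi.single i 1))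
  let q := Fintype.linearCombination R a
  have hq : ∀ z, u (q z) = q₀ (t ∘ z) := by
    intro z
    rw [Fintype.linearCombination_apply, map_sum]
    conv_rhs => rw [← Finset.univ_sum_single (t ∘ z), map_sum]
    refine Finset.sum_congr rfl fun i _ => ?_
    rw [LinearMap.map_smulₛₗ, ha, ← map_smul, ← Pi.single_smul, smul_eq_mul, mul_one]
    rfl
  let e₀ : Matrix (Fin m) (Fin m) S := LinearMap.toMatrix' (s₀ ∘ₗ q₀)
  have he₀ : IsIdempotentElem e₀ := by
    rw [IsIdempotentElem, ← LinearMap.toMatrix'_comp]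
    exact congrArg LinearMap.toMatrix'
      (LinearMap.ext fun x => congrArg s₀ (LinearMap.congr_fun h₀ (q₀ x)))
  obtain ⟨e, he, hte⟩ := exists_isIdempotentElem_eq_of_ker_isNilpotent (f := t.mapMatrix (m := Fin m))
    (fun X hX => isNilpotent_matrix X fun i j => hnil _ (congrFun (congrFun hX i) j)) e₀
    ⟨Matrix.of fun i j => (ht (e₀ i j)).choose, Matrix.ext fun i j => (ht (e₀ i j)).choose_spec⟩ he₀
  let E := Matrix.toLin' e
  have hE : ∀ x, E (E x) = E x := fun x => by
    rw [← LinearMap.comp_apply, ← Matrix.toLin'_mul, he.eq]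
  have htE : ∀ z, t ∘ (E z) = s₀ (q₀ (t ∘ z)) := by
    intro z
    rw [← LinearMap.comp_apply (f := s₀), ← Matrix.toLin'_toMatrix' (s₀ ∘ₗ q₀)]
    change _ = Matrix.toLin' e₀ (t ∘ z)
    rw [← hte, Matrix.toLin'_apply, Matrix.toLin'_apply]
    funext i
    exact RingHom.map_mulVec t e z i
  have hIjac : RingHom.ker t ≤ Ideal.jacobson ⊥ :=
    fun x hx => Ideal.mem_sInf.mpr fun {J} hJ => by
      obtain ⟨n, hn⟩ := hnil x hx
      exact hJ.2.isPrime.mem_of_pow_mem n (hn ▸ J.zero_mem)
  let h := q ∘ₗ (LinearMap.range E).subtype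
  have hsurj : Function.Surjective h := by
    rw [← LinearMap.range_eq_top, eq_top_iff]
    refine Submodule.le_of_le_smul_of_le_jacobson_bot Module.Finite.fg_top hIjac fun x _ => ?_
    obtain ⟨z, hz⟩ : ∃ z : Fin m → R, t ∘ z = s₀ (u x) :=
      ⟨fun i => (ht (s₀ (u x) i)).choose, funext fun i => (ht (s₀ (u x) i)).choose_spec⟩
    have hx : x - q (E z) ∈ LinearMap.ker u := by
      have h1 : ∀ w, q₀ (s₀ w) = w := LinearMap.congr_fun h₀
      rw [LinearMap.mem_ker, map_sub, hq, htE, hz, h1, h1, sub_self]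
    rw [hker] at hx
    exact mem_sup.mpr ⟨q (E z), ⟨⟨E z, z, rfl⟩, rfl⟩, _, hx, by abel⟩
  have hfix : ∀ p ∈ LinearMap.range E, E p = p := by
    rintro _ ⟨z, rfl⟩
    exact hE z
  have hinj : Function.Injective h := by
    rw [injective_iff_map_eq_zero]
    rintro ⟨x, hxP⟩ hx0
    change q x = 0 at hx0
    have hI : ∀ y ∈ LinearMap.range E, q y = 0 → ∀ i, y i ∈ RingHom.ker t := by
      intro y hy h0 i
      rw [RingHom.mem_ker]
      have h2 := congrFun (htE y) i
      rw [hfix y hy, ← hq, h0, map_zero, map_zero] at h2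
      exact h2
    have hrel : ∑ i, x i • q (E (Pi.single i 1)) = 0 := by
      rw [← hx0]
      conv_rhs => rw [← hfix x hxP, ← Finset.univ_sum_single x, map_sum, map_sum]
      refine Finset.sum_congr rfl fun i _ => ?_
      rw [← map_smul, ← map_smul, ← Pi.single_smul, smul_eq_mul, mul_one]
    obtain ⟨k, b, y, hy, hb⟩ := (Module.Flat.iff_forall_isTrivialRelation.mp inferInstance) hrel
    choose w hw using fun j => hsurj (y j)
    let x' : Fin m → (Fin m → R) := fun i => E (Pi.single i 1) - ∑ j, b i j • (w j).1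
    have hx'P : ∀ i, x' i ∈ LinearMap.range E := fun i =>
      sub_mem ⟨_, rfl⟩ (sum_mem fun j _ => smul_mem _ _ (w j).2)
    have hx'0 : ∀ i, q (x' i) = 0 := fun i => by
      simp only [x', map_sub, map_sum, map_smul]
      rw [show q (E (Pi.single i 1)) = _ from hy i, sub_eq_zero]
      exact Finset.sum_congr rfl fun j _ => by rw [← hw j]; rfl
    have hxeq : x = ∑ i, x i • x' i := by
      have h1 : ∑ i, x i • E (Pi.single i 1) = x := by
        conv_rhs => rw [← hfix x hxP, ← Finset.univ_sum_single x, map_sum]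
        refine Finset.sum_congr rfl fun i _ => ?_
        rw [← map_smul, ← Pi.single_smul, smul_eq_mul, mul_one]
      have h2 : ∑ i, x i • ∑ j, b i j • (w j).1 = 0 := by
        simp only [Finset.smul_sum, smul_smul]
        rw [Finset.sum_comm]
        exact Finset.sum_eq_zero fun j _ => by rw [← Finset.sum_smul, hb j, zero_smul]
      simp only [x', smul_sub, Finset.sum_sub_distrib, h1, h2, sub_zero]
    let J : Ideal R := Ideal.span (Set.range x)
    have hJ : J = ⊥ := by
      refine Submodule.eq_bot_of_le_smul_of_le_jacobson_bot (RingHom.ker t) J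
        (Submodule.fg_span (Set.finite_range _)) ?_ hIjac
      refine Ideal.span_le.mpr ?_
      rintro _ ⟨c, rfl⟩
      conv => arg 2; rw [hxeq]
      rw [SetLike.mem_coe, Finset.sum_apply]
      refine sum_mem fun i _ => ?_
      rw [Pi.smul_apply, smul_eq_mul]
      show x i * x' i c ∈ RingHom.ker t * J
      rw [mul_comm (x i)]
      exact Ideal.mul_mem_mul (hI (x' i) (hx'P i) (hx'0 i) c) (Ideal.subset_span ⟨i, rfl⟩)
    refine Subtype.ext (funext fun c => ?_)
    show x c = 0
    rw [← Ideal.mem_bot, ← hJ]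
    exact Ideal.subset_span ⟨c, rfl⟩
  let ψ := LinearEquiv.ofBijective h ⟨hinj, hsurj⟩
  refine ⟨q, (LinearMap.range E).subtype ∘ₗ ψ.symm.toLinearMap,
    LinearMap.ext fun x => ψ.apply_symm_apply x, hq, fun x => ?_⟩
  obtain ⟨p, rfl⟩ := ψ.surjective x
  show t ∘ (ψ.symm (ψ p)).1 = s₀ (u (q p.1))
  rw [LinearEquiv.symm_apply_apply, hq, ← htE, hfix p.1 p.2]

/-- The limit of a system of finite flat modules along surjections with nil kernels. -/
theorem exists_projective_limit (A : Type u) [CommRing A] (An : ℕ → Type u) [∀ n, CommRing (An n)]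
    (t : ∀ n, An (n + 1) →+* An n) (π : ∀ n, A →+* An n)
    (ht : ∀ n, Function.Surjective (t n)) (hnil : ∀ n (x : An (n + 1)), t n x = 0 → IsNilpotent x)
    (hπ : ∀ n, (t n).comp (π (n + 1)) = π n) (hsep : ∀ a b : A, (∀ n, π n a = π n b) → a = b)
    (hlim : ∀ x : ∀ n, An n, (∀ n, t n (x (n + 1)) = x n) → ∃ a : A, ∀ n, π n a = x n)
    (M : ℕ → Type u) [∀ n, AddCommGroup (M n)] [∀ n, Module (An n) (M n)]
    (u : ∀ n, M (n + 1) →ₛₗ[t n] M n) [Module.Projective (An 0) (M 0)]
    (hfin : ∀ n, Module.Finite (An n) (M n)) (hflat : ∀ n, Module.Flat (An n) (M n))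
    (hu : ∀ n, Function.Surjective (u n) ∧
      LinearMap.ker (u n) = RingHom.ker (t n) • (⊤ : Submodule (An (n + 1)) (M (n + 1)))) :
    ∃ (P : Type u) (_ : AddCommGroup P) (_ : Module A P) (p : ∀ n, P →ₛₗ[π n] M n),
      Module.Finite A P ∧ Module.Projective A P ∧ (∀ n (x : P), u n (p (n + 1) x) = p n x) ∧
      (∀ n, Function.Surjective (p n) ∧ LinearMap.ker (p n) = RingHom.ker (π n) • (⊤ : Submodule A P)) ∧
      (∀ x : (∀ n, M n), (∀ n, u n (x (n + 1)) = x n) → ∃! q : P, ∀ n, p n q = x n) := by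
  classical
  obtain ⟨m, q₀, hq₀⟩ := Module.Finite.exists_fin' (An 0) (M 0)
  obtain ⟨s₀, hs₀⟩ := Module.projective_lifting_property q₀ LinearMap.id hq₀
  let T : ℕ → Type u := fun n => {p : ((Fin m → An n) →ₗ[An n] M n) × (M n →ₗ[An n] (Fin m → An n)) //
    p.1 ∘ₗ p.2 = LinearMap.id}
  have step : ∀ n (p : T n), ∃ p' : T (n + 1), (∀ z, u n (p'.1.1 z) = p.1.1 (t n ∘ z)) ∧
      ∀ x, t n ∘ (p'.1.2 x) = p.1.2 (u n x) := by
    rintro n ⟨⟨q, s⟩, h⟩
    haveI := hfin (n + 1)
    haveI := hflat (n + 1)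
    obtain ⟨q', s', h', h1, h2⟩ :=
      exists_splitting (t n) (ht n) (hnil n) (u n) (hu n).1 (hu n).2 q s h
    exact ⟨⟨⟨q', s'⟩, h'⟩, h1, h2⟩
  choose g hg1 hg2 using step
  let d : ∀ n, T n := fun n => Nat.rec (⟨⟨q₀, s₀⟩, hs₀⟩ : T 0) (fun n p => g n p) n
  let q := fun n => (d n).1.1
  let s := fun n => (d n).1.2
  have hqs : ∀ n x, q n (s n x) = x := fun n => LinearMap.congr_fun (d n).2
  have hq : ∀ n z, u n (q (n + 1) z) = q n (t n ∘ z) := fun n => hg1 n (d n)
  have hs : ∀ n x, t n ∘ s (n + 1) x = s n (u n x) := fun n => hg2 n (d n)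
  have hsurjA : ∀ n (b : An n), ∃ a : A, π n a = b := by
    intro n b
    have hseq : ∃ y : ∀ k, An k, (∀ k, t k (y (k + 1)) = y k) ∧ y n = b := by
      induction n with
      | zero =>
        exact ⟨fun k => Nat.rec (motive := An) b (fun k z => (ht k z).choose) k,
          fun k => (ht k _).choose_spec, rfl⟩
      | succ n ih =>
        obtain ⟨y, hy, hyn⟩ := ih (t n b)
        let y' : ∀ k, An k := fun k => Nat.rec (motive := An) (y 0)
          (fun k z => if hk : k = n then hk ▸ b
            else if k < n then y (k + 1) else (ht k z).choose) k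
        have hle : ∀ k, k ≤ n → y' k = y k := by
          intro k hk
          cases k with
          | zero => rfl
          | succ k =>
            show dite _ _ _ = _
            rw [dif_neg (by omega), if_pos (by omega)]
        have hn1 : y' (n + 1) = b := by
          show dite _ _ _ = _
          rw [dif_pos rfl]
        refine ⟨y', fun k => ?_, hn1⟩
        rcases lt_trichotomy k n with hk | rfl | hk
        · rw [hle k hk.le, hle (k + 1) hk, hy]
        · rw [hn1, hle k le_rfl, hyn]
        · show t k (dite _ _ _) = _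
          rw [dif_neg (by omega), if_neg (by omega)]
          exact (ht k _).choose_spec
    obtain ⟨y, hy, rfl⟩ := hseq
    obtain ⟨a, ha⟩ := hlim y hy
    exact ⟨a, ha n⟩
  have htc : ∀ n (z : Fin m → A), t n ∘ (π (n + 1) ∘ z) = π n ∘ z := fun n z => by
    funext i
    exact RingHom.congr_fun (hπ n) (z i)
  have hvec : ∀ x : (∀ n, Fin m → An n), (∀ n, t n ∘ x (n + 1) = x n) →
      ∃ z : Fin m → A, ∀ n, π n ∘ z = x n := by
    intro x hx
    choose z hz using fun i => hlim (fun n => x n i) fun n => congrFun (hx n) i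
    exact ⟨z, fun n => funext fun i => hz i n⟩
  choose col hcol using fun j : Fin m => hvec (fun n => s n (q n (Pi.single j 1))) fun n => by
    rw [hs, hq]
    congr 2
    funext i
    rcases eq_or_ne i j with rfl | h <;> simp [*]
  let E : (Fin m → A) →ₗ[A] (Fin m → A) := Fintype.linearCombination A col
  have hE : ∀ n z, π n ∘ (E z) = s n (q n (π n ∘ z)) := by
    intro n z
    conv_rhs => rw [← Finset.univ_sum_single (π n ∘ z), map_sum, map_sum]
    funext i
    rw [Function.comp_apply, Fintype.linearCombination_apply, Finset.sum_apply, map_sum, Finset.sum_apply]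
    refine Finset.sum_congr rfl fun j _ => ?_
    rw [Pi.smul_apply, smul_eq_mul, map_mul,
      show (Pi.single j ((π n ∘ z) j) : Fin m → An n) = π n (z j) • Pi.single j 1 by
        rw [← Pi.single_smul, smul_eq_mul, mul_one]; rfl,
      map_smul, map_smul, Pi.smul_apply, smul_eq_mul, ← hcol j n]
    rfl
  have hidem : ∀ z, E (E z) = E z := fun z => funext fun i => hsep _ _ fun n => by
    have h := congrFun (show π n ∘ E (E z) = π n ∘ E z by rw [hE, hE, hqs]) i
    exact h
  let P := LinearMap.range E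
  have hfix : ∀ z ∈ P, E z = z := by
    rintro _ ⟨z, rfl⟩
    exact hidem z
  let p : ∀ n, P →ₛₗ[π n] M n := fun n =>
    { toFun := fun x => q n (π n ∘ x.1)
      map_add' := fun x y => by
        rw [← map_add]
        congr 1
        funext i
        exact map_add (π n) _ _
      map_smul' := fun c x => by
        rw [← map_smul]
        congr 1
        funext i
        exact map_mul (π n) _ _ }
  refine ⟨P, inferInstance, inferInstance, p, inferInstance, ?_, fun n x => ?_, fun n => ⟨?_, ?_⟩, ?_⟩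
  · exact Module.Projective.of_split P.subtype E.rangeRestrict
      (LinearMap.ext fun x => Subtype.ext (hfix x.1 x.2))
  · show u n (q (n + 1) (π (n + 1) ∘ x.1)) = q n (π n ∘ x.1)
    rw [hq, htc]
  · intro y
    choose z hz using fun i => hsurjA n (s n y i)
    refine ⟨⟨E z, z, rfl⟩, ?_⟩
    show q n (π n ∘ E z) = y
    rw [hE, hqs, show π n ∘ z = s n y from funext hz, hqs]
  · refine le_antisymm (fun x hx => ?_) (Submodule.smul_le.mpr fun a ha x _ => ?_)
    · change q n (π n ∘ x.1) = 0 at hx
      have h0 : ∀ i, x.1 i ∈ RingHom.ker (π n) := fun i => by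
        have h1 := congrFun (hE n x.1) i
        rw [hfix x.1 x.2, hx, map_zero] at h1
        exact h1
      have e : x = ∑ i, x.1 i • E.rangeRestrict (Pi.single i 1) := Subtype.ext (by
        rw [AddSubmonoidClass.coe_finset_sum]
        conv_lhs => rw [← hfix x.1 x.2, ← Finset.univ_sum_single x.1, map_sum]
        refine Finset.sum_congr rfl fun i _ => ?_
        rw [SetLike.val_smul, LinearMap.codRestrict_apply, ← map_smul, ← Pi.single_smul, smul_eq_mul,
          mul_one])
      rw [e]
      exact sum_mem fun i _ => smul_mem_smul (h0 i) trivial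
    · rw [LinearMap.mem_ker, LinearMap.map_smulₛₗ, RingHom.mem_ker.mp ha, zero_smul]
  · intro x hx
    obtain ⟨z, hz⟩ := hvec (fun n => s n (x n)) fun n => by rw [hs, hx]
    have hpz : ∀ n, p n ⟨E z, z, rfl⟩ = x n := fun n => by
      show q n (π n ∘ E z) = x n
      rw [hE, hqs, hz, hqs]
    refine ⟨⟨E z, z, rfl⟩, hpz, fun y hy => Subtype.ext (funext fun i => hsep _ _ fun n => ?_)⟩
    have h1 : π n ∘ y.1 = π n ∘ E z := by
      rw [← hfix y.1 y.2, hE, hE, show q n (π n ∘ y.1) = x n from hy n, hz, hqs]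
    exact congrFun h1 i

end Groth.L05.AdicLim
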