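import Mathlib.RingTheory.AdicCompletion.Basic
import Mathlib.RingTheory.Finiteness.Ideal
import Mathlib.RingTheory.Ideal.Operations
import Mathlib.Algebra.BigOperators.Ring.Finset
import Mathlib.Tactic.LinearCombination

/-!
# The limit of a system of thickenings is adically complete
-/

universe u

namespace Groth.L05.AdicLim

/-- An element at level `n` extends to a compatible family. -/
theorem exists_compatible_family (n : ℕ) : ∀ (B : ℕ → Type u) [∀ n, CommRing (B n)]
    (u : ∀ n, B (n + 1) →+* B n), (∀ n, Function.Surjective (u n)) → ∀ y : B n,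
    ∃ Y : ∀ m, B m, (∀ m, u m (Y (m + 1)) = Y m) ∧ Y n = y := by
  induction n with
  | zero =>
    intro B _ u hu y
    exact ⟨fun m => Nat.rec (motive := B) y (fun k z => (hu k z).choose) m,
      fun m => (hu m _).choose_spec, rfl⟩
  | succ n ih =>
    intro B _ u hu y
    obtain ⟨Y, hY, hYn⟩ := ih (fun m => B (m + 1)) (fun m => u (m + 1)) (fun m => hu (m + 1)) y
    refine ⟨fun m => m.casesOn (u 0 (Y 0)) Y, fun m => ?_, hYn⟩
    cases m with
    | zero => rfl
    | succ m => exact hY m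

theorem le_of_le_sup_sq {R : Type*} [CommRing R] {K P : Ideal R} (h : K ≤ P ⊔ K ^ 2) {N : ℕ}
    (hN : K ^ N = ⊥) : K ≤ P := by
  have key : ∀ j, K ≤ P ⊔ K ^ (j + 1) := by
    intro j
    induction j with
    | zero => simp
    | succ j ih =>
      refine h.trans (sup_le le_sup_left ?_)
      calc K ^ 2 = K * K := sq K
        _ ≤ (P ⊔ K ^ (j + 1)) * K := Ideal.mul_mono_left ih
        _ = P * K ⊔ K ^ (j + 1) * K := Submodule.sup_mul _ _ _
        _ ≤ P ⊔ K ^ (j + 1 + 1) := sup_le_sup Ideal.mul_le_left (pow_succ K (j + 1)).ge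
  refine (key N).trans (sup_le le_rfl ?_)
  rw [pow_succ, hN]; simp

theorem isAdicComplete_of_limit (B : ℕ → Type u) [∀ n, CommRing (B n)]
    (u : ∀ n, B (n + 1) →+* B n) (hu : ∀ n, Function.Surjective (u n))
    (v : ∀ n, B n →+* B 0) (hv0 : v 0 = RingHom.id (B 0)) (hv : ∀ n, (v n).comp (u n) = v (n + 1))
    (hker : ∀ n, RingHom.ker (u n) = RingHom.ker (v (n + 1)) ^ (n + 1))
    (hfg : (RingHom.ker (v 1)).FG)
    (A : Type u) [CommRing A] (p : ∀ n, A →+* B n)
    (hp : ∀ n, (u n).comp (p (n + 1)) = p n)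
    (hinj : ∀ x : A, (∀ n, p n x = 0) → x = 0)
    (hlift : ∀ y : (∀ n, B n), (∀ n, u n (y (n + 1)) = y n) → ∃ x : A, ∀ n, p n x = y n) :
    IsAdicComplete (RingHom.ker (p 0)) A ∧
      (∀ n, Function.Surjective (p n) ∧ RingHom.ker (p n) = RingHom.ker (p 0) ^ (n + 1)) ∧
      (RingHom.ker (p 0)).FG := by
  have hvp : ∀ n, (v n).comp (p n) = p 0 := fun n => by
    induction n with
    | zero => rw [hv0]; rfl
    | succ n ih => rw [← hv, RingHom.comp_assoc, hp, ih]
  have hsurj : ∀ n, Function.Surjective (p n) := fun n y => by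
    obtain ⟨Y, hY, hYn⟩ := exists_compatible_family n B u hu y
    obtain ⟨x, hx⟩ := hlift Y hY
    exact ⟨x, (hx n).trans hYn⟩
  have hkmap : ∀ n, Ideal.map (u n) (RingHom.ker (v (n + 1))) = RingHom.ker (v n) := fun n => by
    rw [← hv, ← RingHom.comap_ker, Ideal.map_comap_of_surjective _ (hu n)]
  have hnil : ∀ n, RingHom.ker (v n) ^ (n + 1) = ⊥ := fun n => by
    rw [← hkmap, ← Ideal.map_pow, ← hker, Ideal.map_eq_bot_iff_le_ker]
  have hmono : ∀ {m n}, m ≤ n → ∀ x, p n x = 0 → p m x = 0 := by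
    intro m n hmn x hx
    induction hmn with
    | refl => exact hx
    | @step n _ ih => exact ih (by rw [← hp n, RingHom.comp_apply, hx, map_zero])
  obtain ⟨r, b, hb⟩ := Submodule.fg_iff_exists_fin_generating_family.mp hfg
  choose a ha using fun i => hsurj 1 (b i)
  set J : Ideal A := Ideal.span (Set.range a) with hJ
  have hJmap : ∀ n, Ideal.map (p n) J ≤ RingHom.ker (v n) := fun n => by
    rw [hJ, Ideal.map_span, Ideal.span_le]
    rintro _ ⟨_, ⟨i, rfl⟩, rfl⟩
    have h1 : v 1 (b i) = 0 := (hb ▸ Submodule.subset_span ⟨i, rfl⟩ : b i ∈ RingHom.ker (v 1))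
    show v n (p n (a i)) = 0
    rw [← RingHom.comp_apply, hvp, ← hvp 1, RingHom.comp_apply, ha, h1]
  have hgen : ∀ n, Ideal.map (p n) J = RingHom.ker (v n) := fun n => by
    refine le_antisymm (hJmap n) ?_
    induction n with
    | zero =>
      rw [show RingHom.ker (v 0) = ⊥ by rw [hv0]; exact (RingHom.injective_iff_ker_eq_bot _).mp fun x y h => h]
      exact bot_le
    | succ n ih =>
      rcases Nat.eq_zero_or_pos n with rfl | hn
      · refine (hb.symm.le.trans ?_ : RingHom.ker (v 1) ≤ Ideal.map (p 1) J)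
        refine Submodule.span_le.mpr ?_
        rintro _ ⟨i, rfl⟩
        exact ha i ▸ Ideal.mem_map_of_mem _ (Ideal.subset_span ⟨i, rfl⟩)
      · refine le_of_le_sup_sq (N := n + 1 + 1) ?_ (hnil _)
        intro x hx
        have h1 : u n x ∈ Ideal.map (p n) J := ih (by
          rw [RingHom.mem_ker] at hx ⊢
          rwa [← RingHom.comp_apply, hv])
        obtain ⟨j, hj, hjx⟩ := (Ideal.mem_map_iff_of_surjective _ (hsurj n)).mp h1
        refine Submodule.mem_sup.mpr ⟨p (n + 1) j, Ideal.mem_map_of_mem _ hj, x - p (n + 1) j, ?_,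
          add_sub_cancel _ _⟩
        have h2 : x - p (n + 1) j ∈ RingHom.ker (u n) := by
          rw [RingHom.mem_ker, map_sub, ← RingHom.comp_apply, hp, hjx, sub_self]
        exact Ideal.pow_le_pow_right (by omega) (hker n ▸ h2)
  have hJI : J ≤ RingHom.ker (p 0) := fun x hx => by
    have h1 : p 1 x ∈ RingHom.ker (v 1) := hgen 1 ▸ Ideal.mem_map_of_mem _ hx
    rw [RingHom.mem_ker, ← hvp 1]
    exact h1
  have hpow : ∀ n, RingHom.ker (p 0) ^ (n + 1) ≤ RingHom.ker (p n) := fun n => by
    rw [← Ideal.map_eq_bot_iff_le_ker, Ideal.map_pow, eq_bot_iff]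
    refine (pow_le_pow_left' ?_ _).trans_eq (hnil n)
    rw [Ideal.map_le_iff_le_comap, RingHom.comap_ker, hvp]
  have hJpow : ∀ {m k}, m + 1 ≤ k → ∀ x ∈ J ^ k, p m x = 0 := fun {m k} hk x hx =>
    hpow m (Ideal.pow_right_mono hJI _ (Ideal.pow_le_pow_right hk hx))
  have hle : ∀ n, RingHom.ker (p n) ≤ J ^ (n + 1) := by
    intro n x hx
    obtain ⟨N, g, hg⟩ := Submodule.fg_iff_exists_fin_generating_family.mp
      (Ideal.FG.pow (n := n + 1) (hJ ▸ Submodule.fg_span (Set.finite_range a) : J.FG))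
    have step : ∀ k, ∀ y ∈ RingHom.ker (p (n + k)), ∃ c : Fin N → A, (∀ i, c i ∈ J ^ k) ∧
        y - ∑ i, c i * g i ∈ RingHom.ker (p (n + (k + 1))) := by
      intro k y hy
      have h1 : p (n + k + 1) y ∈ RingHom.ker (u (n + k)) := by
        rw [RingHom.mem_ker, ← RingHom.comp_apply, hp]; exact hy
      rw [hker, ← hgen, ← Ideal.map_pow] at h1
      obtain ⟨j, hj, hjy⟩ := (Ideal.mem_map_iff_of_surjective _ (hsurj _)).mp h1
      have hj' : j ∈ J ^ k • Submodule.span A (Set.range g) := by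
        rw [hg, smul_eq_mul, ← pow_add]
        rwa [show k + (n + 1) = n + k + 1 by omega]
      obtain ⟨c, hc, hcj⟩ := (Submodule.mem_ideal_smul_span_iff_exists_sum _ _ _).mp hj'
      refine ⟨c, hc, ?_⟩
      have h2 : ∑ i, c i * g i = j := by
        rw [← hcj, Finsupp.sum_fintype] <;> simp
      rw [RingHom.mem_ker, h2, map_sub]
      exact sub_eq_zero.mpr hjy.symm
    choose C hC hC' using step
    let X : ∀ k, RingHom.ker (p (n + k)) := fun k =>
      Nat.rec (motive := fun k => RingHom.ker (p (n + k))) ⟨x, hx⟩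
        (fun k y => ⟨(y : A) - ∑ i, C k y y.2 i * g i, hC' k y y.2⟩) k
    let S : ℕ → Fin N → A := fun k i => ∑ l ∈ Finset.range k, C l (X l) (X l).2 i
    have hS : ∀ k, x - ∑ i, S k i * g i = X k := by
      intro k
      induction k with
      | zero => simp [S, X]
      | succ k ih =>
        have h1 : (X (k + 1) : A) = X k - ∑ i, C k (X k) (X k).2 i * g i := rfl
        have h2 : ∀ i, S (k + 1) i = S k i + C k (X k) (X k).2 i := fun i =>
          Finset.sum_range_succ _ _
        rw [h1]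
        simp only [h2, add_mul, Finset.sum_add_distrib]
        linear_combination ih
    have hc : ∀ i, ∃ c : A, ∀ m, p m c = p m (S (m + 1) i) := by
      intro i
      refine hlift (fun m => p m (S (m + 1) i)) fun m => ?_
      show u m (p (m + 1) (S (m + 1 + 1) i)) = _
      rw [← RingHom.comp_apply, hp]
      conv_lhs => rw [show S (m + 1 + 1) i = S (m + 1) i + C (m + 1) (X (m + 1)) (X (m + 1)).2 i from
        Finset.sum_range_succ _ _]
      rw [map_add, hJpow le_rfl _ (hC (m + 1) _ _ i), add_zero]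
    choose c hc using hc
    have hxc : x - ∑ i, c i * g i = 0 := hinj _ fun m => by
      have h1 : p m (x - ∑ i, S (m + 1) i * g i) = 0 := by
        rw [hS]; exact hmono (by omega) _ (X (m + 1)).2
      simpa [map_sub, map_sum, map_mul, hc] using h1
    rw [sub_eq_zero] at hxc
    rw [hxc]
    exact Submodule.sum_mem _ fun i _ => Ideal.mul_mem_left _ _ (hg ▸ Submodule.subset_span ⟨i, rfl⟩)
  have hI : RingHom.ker (p 0) = J := le_antisymm (by simpa using hle 0) hJI
  have heq : ∀ n, RingHom.ker (p n) = RingHom.ker (p 0) ^ (n + 1) := fun n =>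
    le_antisymm ((hle n).trans_eq (by rw [hI])) (hpow n)
  refine ⟨{ haus' := fun x hx => hinj x fun m => ?_, prec' := fun f hf => ?_ },
    fun n => ⟨hsurj n, heq n⟩, hI ▸ Submodule.fg_span (Set.finite_range a)⟩
  · have h1 := hx (m + 1)
    rw [SModEq.zero, smul_eq_mul, Ideal.mul_top] at h1
    exact hpow m h1
  · have hfam : ∀ m, u m (p (m + 1) (f (m + 1 + 1))) = p m (f (m + 1)) := fun m => by
      have h1 := hf (Nat.le_succ (m + 1))
      rw [SModEq.sub_mem, smul_eq_mul, Ideal.mul_top] at h1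
      rw [← RingHom.comp_apply, hp]
      exact (sub_eq_zero.mp (by rw [← map_sub]; exact hpow m h1)).symm
    obtain ⟨L, hL⟩ := hlift (fun m => p m (f (m + 1))) hfam
    refine ⟨L, fun k => ?_⟩
    rw [SModEq.sub_mem, smul_eq_mul, Ideal.mul_top]
    cases k with
    | zero => simp
    | succ k =>
      rw [← heq k, RingHom.mem_ker, map_sub, hL, sub_self]

end Groth.L05.AdicLim
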